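import Cfsg.Agent.Lib.ThreeTransp.M22Prime.Local
import Cfsg.Agent.Lib.ThreeTransp.M23.Unique
import Cfsg.Agent.GenA.Tower.Main23

/-!
Orders of joint centralisers in a group of type M(23), and the congruences satisfied by the
members fixed by a subgroup of prime order.
-/

set_option autoImplicit false
set_option linter.unusedSectionVars false

namespace Cfsg.Agent.ThreeTransp.M23Prime

open Subgroup
open Cfsg.Agent.ThreeTransp
open Cfsg.Agent.ThreeTransp.Factor (nb Hd Sd Dl Dq mem_Hd)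
open Cfsg.Agent.ThreeTransp.M22Prime (fixIn modEq_fixIn mem_fixIn_iff_le nb_stable inter_stable)
open Cfsg.Agent.GenA.Tower (far far_pair pr pr_mk pr_mem)

universe u

variable {G : Type u} [Group G] {D : Set G}

theorem mem_cent {a k : G} : k ∈ centralizer ({a} : Set G) ↔ Commute k a :=
  mem_centralizer_singleton_iff

theorem mem_cent_two {a b k : G} :
    k ∈ centralizer ({a} : Set G) ⊓ centralizer ({b} : Set G) ↔ Commute k a ∧ Commute k b :=
  Subgroup.mem_inf.trans (and_congr mem_cent mem_cent)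

/-- A member fixed by `X` lies in the centraliser of `X`. -/
theorem fixIn_le_centralizer {S : Set G} {X : Subgroup G} {y : G} (hy : y ∈ fixIn S X) :
    y ∈ centralizer (X : Set G) := hy.2

variable [Finite G] (hD : Cfsg.IsThreeTranspositionGroup D)
  (hprim : Cfsg.IsPrimitiveUnderConj D) (h23 : Cfsg.IsOfTypeM23 G D)
include hD hprim h23

theorem base : M23.Base D :=
  ⟨fun a ha => GenA.Tower.M23.sep hD hprim h23 ha,
    fun a ha => (GenA.Tower.core_at hD hprim h23.1 (GenA.Tower.M23.hex hD hprim h23) ha).2.1,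
    fun a ha => GenA.Tower.M23.t22 hD hprim h23 ha,
    fun a ha => GenA.Tower.M23.prim hD hprim h23 ha,
    fun a ha => GenA.Tower.M23.centralizer_eq hD hprim h23 ha⟩

/-- An ordered commuting pair of different members goes to any other one. -/
theorem pair_trans {a b x y : G} (ha : a ∈ D) (hb : b ∈ nb D a) (hx : x ∈ D) (hy : y ∈ nb D x) :
    ∃ g : G, g * a * g⁻¹ = x ∧ g * b * g⁻¹ = y :=
  M23.pair_trans hD (base hD hprim h23) hprim h23.1 ha hb hx hy

/-- An ordered commuting triple of different members goes to any other one. -/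
theorem triple_trans {a b c x y z : G} (ha : a ∈ D) (hb : b ∈ nb D a)
    (hc : c ∈ nb D a ∩ nb D b) (hx : x ∈ D) (hy : y ∈ nb D x) (hz : z ∈ nb D x ∩ nb D y) :
    ∃ g : G, g * a * g⁻¹ = x ∧ g * b * g⁻¹ = y ∧ g * c * g⁻¹ = z :=
  M23.triple_trans hD (base hD hprim h23) hprim h23.1 ha hb hc hx hy hz

theorem exists_lift {a : G} {s : Sd D a} (hs : s ∈ Dq D a) : ∃ x ∈ nb D a, pr D a x = s := by
  rw [← GenA.Tower.image_nb_pr] at hs
  exact hs

theorem card_cent {a : G} (ha : a ∈ D) :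
    Nat.card ↥(centralizer ({a} : Set G)) = 129123503308800 := by
  rw [GenA.Tower.M23.centralizer_eq hD hprim h23 ha]
  exact GenA.Tower.M23.card_loc hD hprim h23 ha

theorem card_cent_two {a b : G} (ha : a ∈ D) (hb : b ∈ nb D a) :
    Nat.card ↥(centralizer ({a} : Set G) ⊓ centralizer ({b} : Set G)) = 36787322880 := by
  have h := M22.orbit_card (centralizer ({a} : Set G)) (centralizer ({b} : Set G))
    (nb D a) (fun g => g * b * g⁻¹) ?_ (fun k _ k' _ => M22.conj_eq_iff)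
  · rw [card_cent hD hprim h23 ha, GenA.Tower.M23.ncard_nb hD hprim h23 ha] at h
    omega
  · ext y
    constructor
    · rintro ⟨g, hg, rfl⟩
      exact M22.conj_eq_self_iff.2 (mem_cent.1 hg) ▸ Cover.conj_nb hD g hb
    · intro hy
      obtain ⟨g, hga, hgb⟩ := pair_trans hD hprim h23 ha hb ha hy
      exact ⟨g, mem_cent.2 (M22.conj_eq_self_iff.1 hga), hgb⟩

theorem card_cent_three {a b c : G} (ha : a ∈ D) (hb : b ∈ nb D a) (hc : c ∈ nb D a ∩ nb D b) :
    Nat.card ↥((centralizer ({a} : Set G) ⊓ centralizer ({b} : Set G)) ⊓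
      centralizer ({c} : Set G)) = 53084160 := by
  have h := M22.orbit_card (centralizer ({a} : Set G) ⊓ centralizer ({b} : Set G))
    (centralizer ({c} : Set G)) (nb D a ∩ nb D b) (fun g => g * c * g⁻¹) ?_
    (fun k _ k' _ => M22.conj_eq_iff)
  · rw [card_cent_two hD hprim h23 ha hb, GenA.Tower.M23.ncard_one hD hprim h23 ha hb] at h
    omega
  · ext y
    constructor
    · rintro ⟨g, hg, rfl⟩
      obtain ⟨hga, hgb⟩ := mem_cent_two.1 hg
      exact ⟨M22.conj_eq_self_iff.2 hga ▸ Cover.conj_nb hD g hc.1,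
        M22.conj_eq_self_iff.2 hgb ▸ Cover.conj_nb hD g hc.2⟩
    · intro hy
      obtain ⟨g, hga, hgb, hgc⟩ := triple_trans hD hprim h23 ha hb hc ha hb hy
      exact ⟨g, mem_cent_two.2 ⟨M22.conj_eq_self_iff.1 hga, M22.conj_eq_self_iff.1 hgb⟩, hgc⟩

theorem card_cent_far {a c : G} (ha : a ∈ D) (hc : c ∈ D) (hac : ¬ Commute a c) :
    Nat.card ↥(centralizer ({a} : Set G) ⊓ centralizer ({c} : Set G)) = 4585351680 := by
  have h := M22.orbit_card (centralizer ({a} : Set G)) (centralizer ({c} : Set G))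
    (far D a) (fun g => g * c * g⁻¹) ?_ (fun k _ k' _ => M22.conj_eq_iff)
  · rw [card_cent hD hprim h23 ha, GenA.Tower.M23.ncard_far hD hprim h23 ha] at h
    omega
  · ext y
    constructor
    · rintro ⟨g, hg, rfl⟩
      refine ⟨hD.2.1 g c hc, fun h => hac ?_⟩
      rw [← M22.conj_eq_self_iff.2 (mem_cent.1 hg)] at h
      exact Basic.commute_conj.1 h
    · intro hy
      obtain ⟨g, hga, hgc⟩ := far_pair hD hprim (GenA.Tower.M23.exists_comm hD hprim h23)
        ha hc hac ha hy.1 hy.2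
      exact ⟨g, mem_cent.2 (M22.conj_eq_self_iff.1 hga), hgc⟩

/-- The members fixed by a group of prime power order, modulo the prime. -/
theorem modEq_class {p : ℕ} [Fact p.Prime] {X : Subgroup G} (hX : IsPGroup p ↥X) :
    31671 ≡ (fixIn D X).ncard [MOD p] := by
  have h := modEq_fixIn hX (fun x _ s hs => hD.2.1 x s hs)
  rwa [GenA.Tower.M23.ncard_class hD hprim h23] at h

theorem modEq_nb {p : ℕ} [Fact p.Prime] {X : Subgroup G} (hX : IsPGroup p ↥X) {a : G}
    (ha : a ∈ fixIn D X) : 3510 ≡ (fixIn (nb D a) X).ncard [MOD p] := by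
  have h := modEq_fixIn hX (nb_stable hD (mem_fixIn_iff_le.1 ha).2)
  rwa [GenA.Tower.M23.ncard_nb hD hprim h23 ha.1] at h

theorem modEq_inter {p : ℕ} [Fact p.Prime] {X : Subgroup G} (hX : IsPGroup p ↥X) {a b : G}
    (ha : a ∈ fixIn D X) (hb : b ∈ fixIn D X) (hab : ¬ Commute a b) :
    351 ≡ (fixIn (nb D a ∩ nb D b) X).ncard [MOD p] := by
  have h := modEq_fixIn hX (inter_stable hD (mem_fixIn_iff_le.1 ha).2 (mem_fixIn_iff_le.1 hb).2)
  rwa [GenA.Tower.M23.ncard_inter hD hprim h23 ha.1 hb.1 hab] at h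

/-- The order of a subgroup centralising two commuting members. -/
theorem card_dvd_of_two {X : Subgroup G} {a b : G} (ha : a ∈ fixIn D X)
    (hb : b ∈ fixIn (nb D a) X) : Nat.card ↥X ∣ 36787322880 := by
  rw [← card_cent_two hD hprim h23 ha.1 hb.1]
  exact Subgroup.card_dvd_of_le (le_inf (mem_fixIn_iff_le.1 ha).2
    (mem_fixIn_iff_le.1 ⟨hb.1.1, hb.2⟩).2)

/-- The order of a subgroup centralising three pairwise commuting members. -/
theorem card_dvd_of_three {X : Subgroup G} {a b c : G} (ha : a ∈ fixIn D X)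
    (hb : b ∈ fixIn (nb D a) X) (hc : c ∈ fixIn (nb D a ∩ nb D b) X) :
    Nat.card ↥X ∣ 53084160 := by
  rw [← card_cent_three hD hprim h23 ha.1 hb.1 hc.1]
  exact Subgroup.card_dvd_of_le (le_inf (le_inf (mem_fixIn_iff_le.1 ha).2
    (mem_fixIn_iff_le.1 ⟨hb.1.1, hb.2⟩).2) (mem_fixIn_iff_le.1 ⟨hc.1.1.1, hc.2⟩).2)

/-- Normaliser, centraliser and fixed neighbours at a fixed member, seen in the local group of
type M(22). -/
theorem card_at {a : G} (ha : a ∈ D) {p : ℕ} [Fact p.Prime] (hp : p ≠ 2)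
    {X : Subgroup G} (hX : Nat.card ↥X = p) (hXa : X ≤ centralizer ({a} : Set G)) :
    ∃ Y : Subgroup (Sd D a), Nat.card ↥Y = p ∧
      Nat.card ↥(normalizer (X : Set G) ⊓ centralizer ({a} : Set G)) =
        2 * Nat.card ↥(normalizer (Y : Set (Sd D a))) ∧
      Nat.card ↥(centralizer (X : Set G) ⊓ centralizer ({a} : Set G)) =
        2 * Nat.card ↥(centralizer (Y : Set (Sd D a))) ∧
      ∀ x ∈ nb D a, pr D a x ∈ fixIn (Dq D a) Y ↔ x ∈ fixIn (nb D a) X := by
  have hcH := GenA.Tower.M23.centralizer_eq hD hprim h23 ha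
  rw [hcH] at hXa ⊢
  set ρ := QuotientGroup.mk' (Subgroup.center ↥(Hd D a)) with hρ
  have hX' : Nat.card ↥(X.subgroupOf (Hd D a)) = p := by
    rw [Nat.card_congr (Subgroup.subgroupOfEquivOfLe hXa).toEquiv, hX]
  have hker : ρ.ker = Subgroup.center ↥(Hd D a) := QuotientGroup.ker_mk' _
  have hk : Nat.card ↥ρ.ker = 2 := by
    rw [hker, GenA.Tower.M23.center_eq hD hprim h23 ha, Nat.card_congr (Subgroup.subgroupOfEquivOfLe
      (Subgroup.zpowers_le.2 (GenA.Tower.M23.mem_Hd_self hD hprim h23 ha))).toEquiv,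
      Nat.card_zpowers, hD.1.1 a ha]
  have hco : (Nat.card ↥ρ.ker).Coprime p := by
    rw [hk]; exact (Nat.coprime_primes Nat.prime_two Fact.out).2 hp.symm
  have hc : ρ.ker ≤ Subgroup.center ↥(Hd D a) := le_of_eq hker
  obtain ⟨hN, hC⟩ := M22Prime.card_lift ρ (QuotientGroup.mk'_surjective _) hc hco hX'
  rw [hk] at hN hC
  refine ⟨(X.subgroupOf (Hd D a)).map ρ, M22Prime.card_map_of_prime ρ hco hX', ?_, ?_, ?_⟩
  · rw [← hN, ← Nat.card_congr (Subgroup.subgroupOfEquivOfLe
      (inf_le_right : normalizer (X : Set G) ⊓ Hd D a ≤ Hd D a)).toEquiv,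
      Subgroup.inf_subgroupOf_right, Subgroup.subgroupOf_normalizer_eq hXa]
  · rw [← hC, ← Nat.card_congr (Subgroup.subgroupOfEquivOfLe
      (inf_le_right : centralizer (X : Set G) ⊓ Hd D a ≤ Hd D a)).toEquiv,
      Subgroup.inf_subgroupOf_right]
    suffices e : (centralizer (X : Set G)).subgroupOf (Hd D a) =
        centralizer ((X.subgroupOf (Hd D a) : Subgroup ↥(Hd D a)) : Set ↥(Hd D a)) by rw [e]
    ext g
    rw [mem_subgroupOf, mem_centralizer_iff, mem_centralizer_iff]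
    exact ⟨fun h x hx => Subtype.ext (h x.1 hx),
      fun h x hx => congrArg Subtype.val (h ⟨x, hXa hx⟩ hx)⟩
  · intro x hx
    constructor
    · rintro ⟨-, hY⟩
      refine ⟨hx, fun y hy => ?_⟩
      have hy' : y ∈ Hd D a := hXa hy
      have hya : y * a * y⁻¹ = a :=
        M22.conj_eq_self_iff.2 (Factor.Hd_commute hy').symm
      have hm : y * x * y⁻¹ ∈ nb D a := hya ▸ Cover.conj_nb hD y hx
      have hc' : Commute (pr D a y) (pr D a x) := by
        rw [pr_mk hy']
        exact hY _ ⟨⟨y, hy'⟩, hy, rfl⟩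
      have e : pr D a (y * x * y⁻¹) = pr D a x := by
        rw [GenA.Tower.pr_mul (mul_mem hy' (mem_Hd hx)) (inv_mem hy'),
          GenA.Tower.pr_mul hy' (mem_Hd hx), GenA.Tower.pr_inv hy', hc'.eq, mul_inv_cancel_right]
      exact mul_inv_eq_iff_eq_mul.1
        (GenA.Tower.pr_inj (GenA.Tower.M23.sep hD hprim h23 ha) hm hx e)
    · rintro ⟨-, hxX⟩
      refine ⟨pr_mem hx, ?_⟩
      rintro _ ⟨y, hy, rfl⟩
      rw [pr_mk (mem_Hd hx)]
      exact ((show Commute y (⟨x, mem_Hd hx⟩ : ↥(Hd D a)) from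
        Subtype.ext (hxX y.1 hy)).map ρ).eq

/-- The fixed neighbours of a fixed member are the fixed members of the local group. -/
theorem image_fix {a : G} (ha : a ∈ D) {X : Subgroup G} {Y : Subgroup (Sd D a)}
    (hpr : ∀ x ∈ nb D a, pr D a x ∈ fixIn (Dq D a) Y ↔ x ∈ fixIn (nb D a) X) :
    pr D a '' fixIn (nb D a) X = fixIn (Dq D a) Y ∧
      (fixIn (nb D a) X).ncard = (fixIn (Dq D a) Y).ncard ∧
      ∀ x ∈ nb D a, (fixIn (nb D a) X ∩ nb D x).ncard =
        (fixIn (nb (Dq D a) (pr D a x)) Y).ncard := by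
  have hs := GenA.Tower.M23.sep hD hprim h23 ha
  have e : pr D a '' fixIn (nb D a) X = fixIn (Dq D a) Y := by
    refine Set.Subset.antisymm (Set.image_subset_iff.2 fun x hx => (hpr x hx.1).2 hx) fun q hq => ?_
    obtain ⟨x, hx, rfl⟩ := exists_lift hD hprim h23 hq.1
    exact ⟨x, (hpr x hx).1 hq, rfl⟩
  refine ⟨e, by rw [← e, GenA.Tower.ncard_pr hs fun x hx => hx.1], fun x hx => ?_⟩
  rw [← GenA.Tower.ncard_pr (D := D) hs (s := fixIn (nb D a) X ∩ nb D x) fun y hy => hy.1.1]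
  congr 1
  ext q
  constructor
  · rintro ⟨y, ⟨hy, hyx⟩, rfl⟩
    exact ⟨(GenA.Tower.pr_nb hD hs hx hy.1).2 hyx, ((hpr y hy.1).2 hy).2⟩
  · rintro ⟨hq, hqY⟩
    obtain ⟨y, hy, rfl⟩ := exists_lift hD hprim h23 hq.1
    exact ⟨y, ⟨(hpr y hy).1 ⟨hq.1, hqY⟩, (GenA.Tower.pr_nb hD hs hx hy).1 hq⟩, rfl⟩

theorem card_group_eq (p : ℕ) (h : p ∣ 4089470473293004800) :
    Nat.card G = p * (4089470473293004800 / p) := by
  rw [GenA.Tower.M23.card_group hD hprim h23, Nat.mul_div_cancel' h]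

end Cfsg.Agent.ThreeTransp.M23Prime
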